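import Mathlib

/-!
# Separation data for a finite group action give étaleness

If `G` acts on `A` with invariants `R` and, for a fixed `s : R`, every `g ≠ 1` has an element of
`A ⊗ A` separating `g` from `1` up to `s`, then `A` is étale over `R` once `s` is inverted.
-/

set_option autoImplicit false

namespace Groth.Agent.PurInertia

open scoped TensorProduct

variable {R A G : Type*} [CommRing R] [CommRing A] [Algebra R A] [Group G]
  [MulSemiringAction G A] [SMulCommClass G R A]

/-- `a ⊗ b ↦ a * g • b`. -/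
noncomputable def mu (g : G) : A ⊗[R] A →ₐ[R] A :=
  Algebra.TensorProduct.lift (AlgHom.id R A) (MulSemiringAction.toAlgHom R A g)
    (fun _ _ => Commute.all _ _)

@[simp] theorem mu_tmul (g : G) (a b : A) : mu (R := R) g (a ⊗ₜ b) = a * g • b := by
  simp [mu]

/-- An element of the ideal of `b - g • b` is the value at `1` of a tensor vanishing at `g`. -/
theorem exists_tensor_of_mem (g : G) {x : A}
    (hx : x ∈ Ideal.span (Set.range fun b : A => b - g • b)) :
    ∃ e : A ⊗[R] A, mu (R := R) (1 : G) e = x ∧ mu (R := R) g e = 0 := by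
  induction hx using Submodule.span_induction with
  | mem x hx =>
    obtain ⟨b, rfl⟩ := hx
    exact ⟨1 ⊗ₜ b - (g • b) ⊗ₜ 1, by simp⟩
  | zero => exact ⟨0, by simp⟩
  | add x y _ _ hx hy =>
    obtain ⟨e, he, he'⟩ := hx
    obtain ⟨f, hf, hf'⟩ := hy
    exact ⟨e + f, by simp [he, hf], by simp [he', hf']⟩
  | smul a x _ hx =>
    obtain ⟨e, he, he'⟩ := hx
    exact ⟨(a ⊗ₜ 1) * e, by simp [he], by simp [he']⟩

theorem exists_separator [Fintype G] [DecidableEq G] (c : G → R)
    (hc : ∀ g : G, g ≠ 1 → algebraMap R A (c g) ∈ Ideal.span (Set.range fun b : A => b - g • b)) :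
    ∃ e : A ⊗[R] A, mu (R := R) (1 : G) e = algebraMap R A (∏ g ∈ Finset.univ.erase (1 : G), c g) ∧
      ∀ g : G, g ≠ 1 → mu (R := R) g e = 0 := by
  have := fun g (hg : g ∈ Finset.univ.erase (1 : G)) =>
    exists_tensor_of_mem (R := R) g (hc g (Finset.ne_of_mem_erase hg))
  choose e he he' using this
  refine ⟨∏ g ∈ (Finset.univ.erase (1 : G)).attach, e g.1 g.2, ?_, fun g hg => ?_⟩
  · rw [map_prod, map_prod, ← Finset.prod_attach (Finset.univ.erase (1 : G))
      (fun g => algebraMap R A (c g))]
    exact Finset.prod_congr rfl fun g _ => he g.1 g.2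
  · rw [map_prod]
    exact Finset.prod_eq_zero (Finset.mem_attach _ ⟨g, Finset.mem_erase.mpr ⟨hg, Finset.mem_univ _⟩⟩)
      (he' g _)

variable [Fintype G] [DecidableEq G]

theorem etale_baseChange_of_separator [Algebra.IsInvariant R A G] [Module.Finite R A]
    [Module.FinitePresentation R A] (hinj : Function.Injective (algebraMap R A))
    (s : R) (e : A ⊗[R] A) (h1 : mu (R := R) (1 : G) e = algebraMap R A s)
    (hg : ∀ g : G, g ≠ 1 → mu (R := R) g e = 0)
    (R' : Type*) [CommRing R'] [Algebra R R'] (hs : IsUnit (algebraMap R R' s)) :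
    Algebra.Etale R' (R' ⊗[R] A) := by
  classical
  obtain ⟨S, rfl⟩ := TensorProduct.exists_finset e
  have hδ : ∀ g : G, ∑ i ∈ S, i.1 * g • i.2 = if g = 1 then algebraMap R A s else 0 := by
    intro g
    split_ifs with h
    · subst h
      rw [← h1, map_sum]
      exact Finset.sum_congr rfl fun i _ => (mu_tmul _ _ _).symm
    · rw [← hg g h, map_sum]
      exact Finset.sum_congr rfl fun i _ => (mu_tmul _ _ _).symm
  let Tl : A →ₗ[R] A := ∑ g : G, (MulSemiringAction.toAlgHom R A g).toLinearMap
  have hTl : ∀ a, Tl a = ∑ g : G, g • a := fun a => by simp [Tl, LinearMap.sum_apply]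
  have hmem : ∀ a, Tl a ∈ LinearMap.range (Algebra.linearMap R A) := by
    intro a
    obtain ⟨b, hb⟩ := Algebra.IsInvariant.isInvariant (A := R) (G := G) (Tl a) fun g => by
      rw [hTl, Finset.smul_sum]
      exact Fintype.sum_equiv (Equiv.mulLeft g) _ _ fun k => (mul_smul g k a).symm
    exact ⟨b, hb⟩
  let T : A →ₗ[R] R :=
    (LinearEquiv.ofInjective (Algebra.linearMap R A) hinj).symm.toLinearMap ∘ₗ
      Tl.codRestrict _ hmem
  have hT : ∀ a, algebraMap R A (T a) = ∑ g : G, g • a := fun a => by
    rw [← hTl]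
    exact congrArg Subtype.val ((LinearEquiv.ofInjective (Algebra.linearMap R A) hinj).apply_symm_apply
      ⟨Tl a, hmem a⟩)
  have hexp : ∀ a : A, ∑ i ∈ S, T (i.2 * a) • i.1 = s • a := by
    intro a
    calc ∑ i ∈ S, T (i.2 * a) • i.1
        = ∑ g : G, (∑ i ∈ S, i.1 * g • i.2) * g • a := by
          simp only [Algebra.smul_def, hT, Finset.sum_mul, smul_mul']
          rw [Finset.sum_comm]
          exact Finset.sum_congr rfl fun g _ => Finset.sum_congr rfl fun i _ => by ring
      _ = s • a := by simp [hδ, Algebra.smul_def]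
  obtain ⟨v, hv⟩ := hs
  haveI : Module.Flat R' (R' ⊗[R] A) := by
    let back : (S → R) →ₗ[R] A := ∑ i : S, (LinearMap.proj i).smulRight i.1.1
    let fwd : A →ₗ[R] (S → R) := LinearMap.pi fun i => T ∘ₗ LinearMap.mulLeft R i.1.2
    have hcomp : ∀ a, back (fwd a) = s • a := fun a => by
      simp only [back, fwd, LinearMap.sum_apply, LinearMap.smulRight_apply, LinearMap.proj_apply,
        LinearMap.pi_apply, LinearMap.comp_apply, LinearMap.mulLeft_apply]
      exact (Finset.sum_coe_sort S fun i => T (i.2 * a) • i.1).trans (hexp a)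
    haveI : Module.Projective R' (R' ⊗[R] (S → R)) := inferInstance
    haveI : Module.Projective R' (R' ⊗[R] A) := by
      refine Module.Projective.of_split ((↑v⁻¹ : R') • fwd.baseChange R') (back.baseChange R') ?_
      ext a
      simp only [LinearMap.comp_apply, LinearMap.smul_apply, map_smul, LinearMap.baseChange_tmul,
        TensorProduct.AlgebraTensorModule.curry_apply, TensorProduct.curry_apply,
        LinearMap.coe_restrictScalars, LinearMap.id_apply, hcomp]
      rw [TensorProduct.tmul_smul, ← algebraMap_smul R' s, ← hv, smul_smul, Units.inv_mul, one_smul]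
    infer_instance
  -- kill `(1 ⊗ b - b ⊗ 1) * e`
  let F : A ⊗[R] A →ₗ[R] A ⊗[R] A :=
    ∑ g : G, ∑ i ∈ S, ((TensorProduct.mk R A A).flip i.1) ∘ₗ
      (LinearMap.mulRight R (g • i.2)) ∘ₗ (mu (R := R) g).toLinearMap
  have hF : ∀ ξ, F ξ = s • ξ := by
    intro ξ
    induction ξ using TensorProduct.induction_on with
    | zero => simp
    | tmul a c =>
      calc F (a ⊗ₜ c) = ∑ i ∈ S, (a * ∑ g : G, g • (i.2 * c)) ⊗ₜ i.1 := by
            simp only [F, LinearMap.sum_apply, LinearMap.comp_apply, AlgHom.toLinearMap_apply,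
              mu_tmul, LinearMap.mulRight_apply, LinearMap.flip_apply, TensorProduct.mk_apply,
              Finset.mul_sum, TensorProduct.sum_tmul]
            rw [Finset.sum_comm]
            exact Finset.sum_congr rfl fun i _ => Finset.sum_congr rfl fun g _ => by
              rw [smul_mul']; ring_nf
        _ = ∑ i ∈ S, a ⊗ₜ (T (i.2 * c) • i.1) := by
            refine Finset.sum_congr rfl fun i _ => ?_
            rw [← hT, mul_comm, ← Algebra.smul_def, TensorProduct.smul_tmul]
        _ = s • (a ⊗ₜ c) := by rw [← TensorProduct.tmul_sum, hexp, TensorProduct.tmul_smul]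
    | add x y hx hy => simp [map_add, hx, hy, smul_add]
  let t : A ⊗[R] A := ∑ i ∈ S, i.1 ⊗ₜ i.2
  have hkill : ∀ b : A, s • ((1 ⊗ₜ b - b ⊗ₜ 1) * t) = 0 := by
    intro b
    rw [← hF]
    simp only [F, LinearMap.sum_apply, LinearMap.comp_apply, AlgHom.toLinearMap_apply]
    refine Finset.sum_eq_zero fun g _ => ?_
    have : mu (R := R) g ((1 ⊗ₜ b - b ⊗ₜ 1) * t) = 0 := by
      by_cases h : g = 1
      · subst h; simp
      · rw [map_mul, hg g h, mul_zero]
    simp [this]
  haveI : Algebra.EssFiniteType R' (R' ⊗[R] A) := inferInstance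
  haveI : Algebra.FormallyUnramified R' (R' ⊗[R] A) := by
    rw [Algebra.FormallyUnramified.iff_exists_tensorProduct]
    let S' := R' ⊗[R] A
    let ι : A →ₐ[R] S' := Algebra.TensorProduct.includeRight
    let Φ : A ⊗[R] A →ₐ[R] S' ⊗[R'] S' :=
      Algebra.TensorProduct.lift
        (((Algebra.TensorProduct.includeLeft : S' →ₐ[R'] S' ⊗[R'] S').restrictScalars R).comp ι)
        (((Algebra.TensorProduct.includeRight : S' →ₐ[R'] S' ⊗[R'] S').restrictScalars R).comp ι)
        (fun _ _ => Commute.all _ _)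
    have hΦ : ∀ a b, Φ (a ⊗ₜ b) = ι a ⊗ₜ[R'] ι b := fun a b => by simp [Φ]
    have hu : ∀ z : S' ⊗[R'] S', s • z = (↑v : R') • z := fun z => by
      rw [hv, algebraMap_smul]
    refine ⟨(↑v⁻¹ : R') • Φ t, fun z => ?_, ?_⟩
    · induction z using TensorProduct.induction_on with
      | zero => simp
      | tmul r a =>
        have h0 : ((1 : S') ⊗ₜ[R'] ι a - ι a ⊗ₜ[R'] (1 : S')) * Φ t = 0 := by
          have h := congrArg Φ (hkill a)
          rw [map_smul, map_zero, map_mul, map_sub, hΦ, hΦ, map_one, hu] at h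
          exact (v.isUnit.smul_eq_zero).mp h
        have hr : (r ⊗ₜ[R] a : S') = r • ι a := by
          rw [show ι a = (1 : R') ⊗ₜ[R] a from rfl, TensorProduct.smul_tmul', smul_eq_mul, mul_one]
        rw [hr, TensorProduct.tmul_smul, ← TensorProduct.smul_tmul', ← smul_sub, smul_mul_assoc,
          mul_smul_comm, h0, smul_zero, smul_zero]
      | add x y hx hy =>
        rw [TensorProduct.tmul_add, TensorProduct.add_tmul, add_sub_add_comm, add_mul, hx, hy,
          add_zero]
    · have hl : Algebra.TensorProduct.lmul' R' (Φ t) = (↑v : R') • (1 : S') := by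
        simp only [t, map_sum, hΦ, Algebra.TensorProduct.lmul'_apply_tmul, ← map_mul]
        rw [← map_sum, show ∑ i ∈ S, i.1 * i.2 = algebraMap R A s by simpa using hδ 1,
          AlgHom.commutes, hv, algebraMap_smul, Algebra.smul_def, mul_one]
      rw [map_smul, hl, smul_smul, Units.inv_mul, one_smul]
  exact Algebra.Etale.of_formallyUnramified_of_flat

end Groth.Agent.PurInertia
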