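import Groth.Agent.PurInertia.Galois
import Groth.Agent.PurityReg.Main
import Groth.Agent.RegLoc.UFD
import Groth.Agent.RegLoc.Homological
import Groth.Agent.S2111

/-!
# Purity: no inertia in height one means no inertia at all

For a normal domain `A`, finite over a regular local ring `R = A^G`.
-/

set_option autoImplicit false
set_option linter.style.haveILetI false
set_option maxHeartbeats 1000000

universe u v w

namespace Groth.Agent.PurInertia

open scoped TensorProduct
open IsLocalRing

variable {R : Type u} [CommRing R] {A : Type v} [CommRing A] [IsDomain A] [Algebra R A]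
  [Module.Finite R A]

/-- In an integral extension the height does not go up. -/
theorem height_le_height_comap {B : Type v} [CommRing B] [Algebra R B] [Algebra.IsIntegral R B]
    (P : Ideal B) [P.IsPrime] : P.height ≤ (P.comap (algebraMap R B)).height := by
  have h : StrictMono (PrimeSpectrum.comap (algebraMap R B)) := fun x y hxy =>
    Ideal.IsIntegral.comap_lt_comap hxy
  have := Order.height_le_height_apply_of_strictMono _ h ⟨P, ‹_›⟩
  exact ((⟨P, ‹_›⟩ : PrimeSpectrum B).height_eq_orderHeight).trans_le
    (this.trans_eq (PrimeSpectrum.comap (algebraMap R B) ⟨P, ‹_›⟩).height_eq_orderHeight.symm)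

/-- Saturation of a finite normal extension at the closed point. -/
theorem exists_eq_smul_of_saturated [IsDomain R] [IsLocalRing R] [IsNoetherianRing R]
    [IsIntegrallyClosed R] [IsIntegrallyClosed A] (hinj : Function.Injective (algebraMap R A))
    (hd : (2 : WithBot ℕ∞) ≤ ringKrullDim R) (c : R) (hc : c ≠ 0) (z : A)
    (hz : ∀ a ∈ maximalIdeal R, ∃ k : ℕ, ∃ w, a ^ k • z = c • w) : ∃ w, z = c • w := by
  haveI : IsNoetherianRing A := IsNoetherianRing.of_finite R A
  haveI : FaithfulSMul R A := (faithfulSMul_iff_algebraMap_injective R A).mpr hinj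
  let K := FractionRing A
  have hc0 : algebraMap A K (algebraMap R A c) ≠ 0 := fun h => hc (hinj (by
    rw [map_zero]; exact IsFractionRing.injective A K (h.trans (map_zero _).symm)))
  obtain ⟨w, hw⟩ := S2111.result (R := A) (algebraMap A K z / algebraMap A K (algebraMap R A c)) (by
    intro P _ hP
    obtain ⟨a, ha, haP⟩ : ∃ a ∈ maximalIdeal R, algebraMap R A a ∉ P := by
      by_contra hne
      push Not at hne
      have hle : maximalIdeal R ≤ P.comap (algebraMap R A) := fun a ha => hne a ha
      haveI : (P.comap (algebraMap R A)).IsPrime := Ideal.IsPrime.comap _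
      have hover : P.LiesOver (maximalIdeal R) :=
        ⟨((maximalIdeal.isMaximal R).eq_of_le (Ideal.IsPrime.comap (K := P) (algebraMap R A)).ne_top hle)⟩
      have h1 : (maximalIdeal R).height ≤ P.height := by
        rw [Ideal.height_eq_height_add_of_liesOver_of_hasGoingDown (maximalIdeal R) P]
        exact le_self_add
      have h2 := WithBot.coe_le_coe.mpr h1
      rw [IsLocalRing.maximalIdeal_height_eq_ringKrullDim, hP] at h2
      exact absurd (hd.trans h2) (by decide)
    obtain ⟨k, w, hkw⟩ := hz a ha
    have hak : algebraMap R A a ^ k ∈ P.primeCompl := fun h => haP (Ideal.IsPrime.mem_of_pow_mem ‹_› k h)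
    refine ⟨IsLocalization.mk' (Localization.AtPrime P) w ⟨algebraMap R A a ^ k, hak⟩, ?_⟩
    rw [eq_div_iff hc0]
    have hu : algebraMap A K (algebraMap R A a ^ k) ≠ 0 := fun h => haP (by
      have h3 := IsFractionRing.injective A K (h.trans (map_zero _).symm)
      rw [pow_eq_zero_iff'] at h3
      rw [h3.1]; exact zero_mem _)
    refine mul_left_cancel₀ hu ?_
    rw [← mul_assoc]
    have hspec := congrArg (algebraMap (Localization.AtPrime P) K)
      (IsLocalization.mk'_spec' (Localization.AtPrime P) w ⟨algebraMap R A a ^ k, hak⟩)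
    rw [map_mul, ← IsScalarTower.algebraMap_apply, ← IsScalarTower.algebraMap_apply] at hspec
    rw [hspec, ← map_mul, ← map_mul, ← map_pow, mul_comm w, ← Algebra.smul_def, ← Algebra.smul_def,
      hkw])
  refine ⟨w, IsFractionRing.injective A K ?_⟩
  rw [Algebra.smul_def, map_mul, hw, mul_div_cancel₀ _ hc0]

/-- Maps to a Noetherian local domain agreeing on the residue field are equal, for unramified
algebras. -/
theorem unramified_hom_ext {Rp : Type*} [CommRing Rp] {S : Type*} [CommRing S] [Algebra Rp S]
    [Algebra.FormallyUnramified Rp S] {B : Type*} [CommRing B] [IsDomain B] [IsLocalRing B]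
    [IsNoetherianRing B] [Algebra Rp B] (f g : S →ₐ[Rp] B)
    (h : ∀ x, f x - g x ∈ maximalIdeal B) : f = g :=
  Algebra.FormallyUnramified.ext_of_iInf (maximalIdeal B)
    (Ideal.iInf_pow_eq_bot_of_isLocalRing (maximalIdeal B) (Ideal.IsPrime.ne_top'))
    fun x => Ideal.Quotient.mk_eq_mk_iff_sub_mem _ _ |>.mpr (h x)

variable (R) {G : Type w} [Group G] [MulSemiringAction G A] [SMulCommClass G R A]

/-- The ideal of `R` of elements in all `(b - g • b)`. -/
def cIdeal (A : Type v) [CommRing A] [Algebra R A] [MulSemiringAction G A] (g : G) : Ideal R :=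
  (Ideal.span (Set.range fun b : A => b - g • b)).comap (algebraMap R A)

variable [Algebra.IsInvariant R A G] [Finite G] [IsIntegrallyClosed A]

theorem cIdeal_ne_le [IsRegularLocalRing R] (hinj : Function.Injective (algebraMap R A))
    (hfaith : ∀ g : G, (∀ a : A, g • a = a) → g = 1)
    (h1 : ∀ P : Ideal A, P.IsPrime → P.height = 1 → ∀ g : G, (∀ a : A, g • a - a ∈ P) → g = 1)
    (n : ℕ) : ∀ p : Ideal R, p.IsPrime → p.height = n → ∀ g : G, g ≠ 1 → ¬ cIdeal R A g ≤ p := by
  classical
  haveI := Fintype.ofFinite G
  haveI : IsDomain R := RegLoc.isDomain R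
  haveI : IsNoetherianRing A := IsNoetherianRing.of_finite R A
  haveI : Algebra.IsIntegral R A := Algebra.IsIntegral.of_finite R A
  haveI : Module.FinitePresentation R A := Module.finitePresentation_of_finite R A
  haveI : UniqueFactorizationMonoid R := RegLoc.UFD.uniqueFactorizationMonoid R
  induction n using Nat.strong_induction_on with
  | _ n ih =>
  intro p hp hn g hg hle
  haveI := hp
  let J := Ideal.span (Set.range fun b : A => b - g • b)
  have hJ : J ≠ ⊥ := fun h => hg (hfaith g fun a => by
    have : a - g • a ∈ J := Ideal.subset_span ⟨a, rfl⟩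
    rw [h, Ideal.mem_bot, sub_eq_zero] at this
    exact this.symm)
  obtain ⟨P, hJP, hP, hPp⟩ := Ideal.exists_ideal_over_prime_of_isIntegral p J hle
  haveI := hP
  have hmem : ∀ a : A, g • a - a ∈ P := fun a => by
    rw [← neg_sub]; exact P.neg_mem (hJP (Ideal.subset_span ⟨a, rfl⟩))
  by_cases hn2 : n ≤ 1
  · have hP1 : P.height ≤ 1 := (height_le_height_comap (R := R) P).trans (by
      rw [hPp, hn]; exact_mod_cast hn2)
    have hP0 : P.height ≠ 0 := fun h => hJ (by
      have hmin := Ideal.height_eq_zero_iff.mp h
      rw [IsDomain.minimalPrimes_eq_singleton_bot] at hmin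
      exact le_bot_iff.mp (hJP.trans (le_of_eq (Set.mem_singleton_iff.mp hmin))))
    exact hg (h1 P hP (le_antisymm hP1 (ENat.one_le_iff_ne_zero.mpr hP0)) g hmem)
  push Not at hn2
  haveI : IsRegularRing R := RegLoc.Homological.isRegularRing
  let Rp := Localization.AtPrime p
  haveI : IsRegularLocalRing Rp := IsRegularRing.isRegularLocalRing_localization p
  haveI : IsDomain Rp := RegLoc.isDomain Rp
  haveI : UniqueFactorizationMonoid Rp := RegLoc.UFD.uniqueFactorizationMonoid Rp
  have hdim : (2 : WithBot ℕ∞) ≤ ringKrullDim Rp := by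
    rw [IsLocalization.AtPrime.ringKrullDim_eq_height p Rp, hn]
    have h2 : (2 : ℕ) ≤ n := hn2
    exact WithBot.coe_le_coe.mpr (Nat.cast_le.mpr h2 : ((2 : ℕ) : ℕ∞) ≤ (n : ℕ∞))
  let M := Algebra.algebraMapSubmonoid A p.primeCompl
  let L := Localization M
  have hM : M ≤ nonZeroDivisors A := by
    rintro _ ⟨s, hs, rfl⟩
    exact mem_nonZeroDivisors_of_ne_zero fun h => hs (by
      rw [hinj (h.trans (map_zero _).symm)]; exact zero_mem _)
  haveI : IsDomain L := IsLocalization.isDomain_localization hM
  haveI : IsIntegrallyClosed L := isIntegrallyClosed_of_isLocalization L M hM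
  haveI : Module.Finite Rp L := Module.Finite.of_isLocalization R A p.primeCompl
  have hinjL : Function.Injective (algebraMap Rp L) :=
    localizationAlgebra_injective (R := R) (M := p.primeCompl) (S := A) Rp L hinj
  haveI : Small.{u} L := by
    obtain ⟨k, f, hf⟩ := Module.Finite.exists_fin' Rp L
    exact small_of_surjective hf
  let e : Shrink.{u} L ≃ₐ[Rp] L := Shrink.algEquiv Rp L
  haveI : Module.Finite Rp (Shrink.{u} L) := Module.Finite.equiv e.symm.toLinearEquiv
  have htf : ∀ c : Rp, c ≠ 0 → ∀ z : Shrink.{u} L, c • z = 0 → z = 0 := by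
    intro c hc z hz
    have h2 := congrArg e hz
    rw [map_smul, map_zero, Algebra.smul_def, mul_eq_zero] at h2
    rcases h2 with h2 | h2
    · exact absurd (hinjL (h2.trans (map_zero _).symm)) hc
    · exact e.injective (h2.trans (map_zero e).symm)
  have hC : ∀ c : Rp, c ≠ 0 → ∀ z : Shrink.{u} L,
      (∀ a ∈ maximalIdeal Rp, ∃ k : ℕ, ∃ w, a ^ k • z = c • w) → ∃ w, z = c • w := by
    intro c hc z hz
    obtain ⟨w, hw⟩ := exists_eq_smul_of_saturated hinjL hdim c hc (e z) fun a ha => by
      obtain ⟨k, w, hw⟩ := hz a ha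
      exact ⟨k, e w, by rw [← map_smul, hw, map_smul]⟩
    exact ⟨e.symm w, e.injective (by rw [map_smul, AlgEquiv.apply_symm_apply]; exact hw)⟩
  haveI : Algebra.IsPushout R Rp A L := (Algebra.isPushout_of_isLocalization p.primeCompl Rp A L).symm
  let e' : Rp ⊗[R] A ≃ₐ[Rp] L := Algebra.IsPushout.equiv R Rp A L
  have het : ∀ a ∈ maximalIdeal Rp, a ≠ 0 →
      Algebra.Etale (Localization.Away a) (Localization.Away a ⊗[Rp] Shrink.{u} L) := by
    intro a ha ha0
    have key : ∀ h : G, ∃ c : R, (h ≠ 1 → c ∈ cIdeal R A h) ∧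
        IsUnit (algebraMap R (Localization.Away a) c) := by
      intro h
      by_cases hh : h = 1
      · exact ⟨1, fun hne => absurd hh hne, by simp⟩
      have hrad : a ∈ ((cIdeal R A h).map (algebraMap R Rp)).radical := by
        rw [Ideal.radical_eq_sInf, Ideal.mem_sInf]
        rintro Q ⟨hQ, hQp⟩
        haveI := hQp
        rcases eq_or_lt_of_le (IsLocalRing.le_maximalIdeal hQp.ne_top) with hQm | hQm
        · exact hQm ▸ ha
        · exfalso
          have hlt : Q.comap (algebraMap R Rp) < p := by
            refine lt_of_lt_of_eq ?_ (IsLocalization.AtPrime.under_maximalIdeal Rp p)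
            refine lt_of_le_of_ne (Ideal.comap_mono hQm.le) fun heq => hQm.ne ?_
            have := congrArg (Ideal.map (algebraMap R Rp)) heq
            rwa [IsLocalization.map_under p.primeCompl, IsLocalization.map_under p.primeCompl] at this
          haveI : (Q.comap (algebraMap R Rp)).IsPrime := Ideal.IsPrime.comap _
          have hh2 := Ideal.height_strict_mono_of_isPrime hlt
          rw [hn] at hh2
          obtain ⟨j, hj⟩ := ENat.ne_top_iff_exists.mp hh2.ne_top
          rw [← hj] at hh2
          exact ih j (by exact_mod_cast hh2) _ inferInstance hj.symm h hh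
            (Ideal.le_comap_map.trans (Ideal.comap_mono hQ))
      obtain ⟨k, hk⟩ := hrad
      obtain ⟨⟨⟨c, hc⟩, u⟩, hcu⟩ :=
        (IsLocalization.mem_map_algebraMap_iff p.primeCompl Rp).mp hk
      refine ⟨c, fun _ => hc, ?_⟩
      rw [IsScalarTower.algebraMap_apply R Rp (Localization.Away a), ← hcu, map_mul, map_pow]
      exact ((IsLocalization.Away.algebraMap_isUnit a).pow k).mul
        ((IsLocalization.map_units Rp u).map _)
    choose c hc hcu using key
    obtain ⟨t, ht1, htg⟩ := exists_separator (R := R) (A := A) c fun h hh => hc h hh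
    haveI := etale_baseChange_of_separator hinj _ t ht1 htg (Localization.Away a) (by
      rw [map_prod]; exact IsUnit.prod_iff.mpr fun h _ => hcu h)
    refine Algebra.Etale.of_equiv (A := Localization.Away a ⊗[R] A)
      ((Algebra.TensorProduct.cancelBaseChange R Rp (Localization.Away a)
        (Localization.Away a) A).symm.trans
          (Algebra.TensorProduct.congr AlgEquiv.refl (e'.trans e.symm)))
  haveI := PurityReg.etale_of_saturated hdim (Shrink.{u} L) htf hC het
  haveI : Algebra.Etale Rp (Rp ⊗[R] A) := Algebra.Etale.of_equiv (e.trans e'.symm)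
  -- inertia at `P` is trivial
  let B := Localization.AtPrime P
  have hu : ∀ s : p.primeCompl, IsUnit (algebraMap R B s) := fun s => by
    rw [IsScalarTower.algebraMap_apply R A B]
    exact IsLocalization.map_units B (⟨algebraMap R A s, fun h => s.2 (hPp.le h)⟩ : P.primeCompl)
  letI : Algebra Rp B := (IsLocalization.lift (M := p.primeCompl) hu).toAlgebra
  haveI : IsScalarTower R Rp B := IsScalarTower.of_algebraMap_eq fun r =>
    (IsLocalization.lift_eq hu r).symm
  let f₁ : A →ₐ[R] B := IsScalarTower.toAlgHom R A B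
  let f₂ : A →ₐ[R] B := f₁.comp (MulSemiringAction.toAlgHom R A g)
  haveI : IsNoetherianRing B := IsLocalization.isNoetherianRing P.primeCompl B inferInstance
  let φ₁ : Rp ⊗[R] A →ₐ[Rp] B :=
    Algebra.TensorProduct.lift (Algebra.ofId Rp B) f₁ (fun _ _ => Commute.all _ _)
  let φ₂ : Rp ⊗[R] A →ₐ[Rp] B :=
    Algebra.TensorProduct.lift (Algebra.ofId Rp B) f₂ (fun _ _ => Commute.all _ _)
  have heq : φ₁ = φ₂ := by
    refine unramified_hom_ext φ₁ φ₂ fun x => ?_
    induction x using TensorProduct.induction_on with
    | zero => simp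
    | tmul r a =>
      simp only [φ₁, φ₂, Algebra.TensorProduct.lift_tmul, ← mul_sub]
      refine Ideal.mul_mem_left _ _ ?_
      show algebraMap A B a - algebraMap A B (g • a) ∈ _
      rw [← map_sub, IsLocalization.AtPrime.to_map_mem_maximal_iff B P, ← neg_sub]
      exact P.neg_mem (hmem a)
    | add x y hx hy => rw [map_add, map_add, add_sub_add_comm]; exact add_mem hx hy
  refine hg (hfaith g fun a => ?_)
  have h2 := DFunLike.congr_fun heq (1 ⊗ₜ a)
  simp only [φ₁, φ₂, Algebra.TensorProduct.lift_tmul, map_one, one_mul] at h2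
  exact (IsLocalization.injective B P.primeCompl_le_nonZeroDivisors h2).symm

/-- **Purity**: no inertia in height one implies no inertia at all. -/
theorem span_sub_smul_eq_top [IsRegularLocalRing R] (hinj : Function.Injective (algebraMap R A))
    (hfaith : ∀ g : G, (∀ a : A, g • a = a) → g = 1)
    (h1 : ∀ P : Ideal A, P.IsPrime → P.height = 1 → ∀ g : G, (∀ a : A, g • a - a ∈ P) → g = 1)
    (g : G) (hg : g ≠ 1) : Ideal.span (Set.range fun b : A => b - g • b) = ⊤ := by
  by_contra h
  have hc : cIdeal R A g ≠ ⊤ := fun htop => h ((Ideal.eq_top_iff_one _).mpr (by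
    have : (1 : R) ∈ cIdeal R A g := htop ▸ Submodule.mem_top
    simpa [cIdeal] using this))
  obtain ⟨p, hp, hle⟩ := Ideal.exists_le_maximal _ hc
  haveI : p.IsPrime := hp.isPrime
  obtain ⟨n, hn⟩ := ENat.ne_top_iff_exists.mp (Ideal.height_ne_top hp.ne_top)
  exact cIdeal_ne_le R hinj hfaith h1 n p inferInstance hn.symm g hg hle

end Groth.Agent.PurInertia
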